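import Cfsg.Agent.NML.ToolA
import Cfsg.Agent.S3102
import Cfsg.Agent.S3100

/-! Identification of `Ly`. -/

set_option autoImplicit false

namespace Cfsg.Lib.NML

open Subgroup Cfsg.Lib.Trans Cfsg.Lib.Gold Cfsg.Lib.L34
open Cfsg.Lib.Comp (Tw)

universe u

variable {G : Type u} [Group G] [Finite G] {A E J R V F₁ F₂ : Subgroup G} {a s σ : G}

omit [Finite G] in
theorem tt_nc (tt : TT J F₁ F₂ V) : ¬ IsMulCommutative G := fun c => by
  obtain ⟨a, ha, na⟩ := tt.exists_notMem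
  obtain ⟨b, hb, nb⟩ := tt.symm.exists_notMem
  exact (tt.nondeg a ha b hb (c.1.1 a b)).elim na nb

theorem le_V_of_normal (cf : JC.Cf R J F₁ F₂ V 1) (cv : Cv R J F₁ V) (hs : s ∈ R)
    (ns : s ∉ Ns F₁) (hE : E ≤ R) (hN : R ≤ Ns E) (e2 : ∀ e ∈ E, e * e = 1) : E ≤ V := by
  have tt := cf.tt
  have k : ∀ x ∈ E, x ∈ J → x ∈ V := fun x hx hJ => by
    have m : s * x * s⁻¹ ∈ E ⊓ J :=
      ⟨mem_normalizer_conj (hN hs) hx, mem_normalizer_conj (cf.norm hs) hJ⟩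
    have : s * x * s⁻¹ ∈ V := by
      rcases tt.le_or (A := E ⊓ J) inf_le_right fun a ha => e2 a ha.1 with q | q
      · exact tt.memV (q m) ((cf.swap hs ns).1 x (q ⟨hx, hJ⟩))
      · exact tt.memV ((cf.swap hs ns).2 x (q ⟨hx, hJ⟩)) (q m)
    simpa [mul_assoc] using mem_normalizer_conj' (cf.NsV hs) this
  intro e he
  have c : ∀ j ∈ J, e * j * e⁻¹ * j⁻¹ ∈ V := fun j hj => k _
    (by simpa [mul_assoc] using mul_mem he (mem_normalizer_conj (hN (cf.JT hj)) (inv_mem he)))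
    (mul_mem (mem_normalizer_conj (cf.norm (hE he)) hj) (inv_mem hj))
  obtain ⟨b, hb, nb⟩ := tt.symm.exists_notMem
  exact k e he (cv e (hE he) (Tw.of_sq (e2 e he)) (cf.norm (hE he))
    (Comp.mem_Ns_of fun a ha => (mul_mem_cancel_right (inv_mem ha)).1 (tt.V₁ (c a (tt.le₁ ha))))
    (centV tt hb nb (c b (tt.le₂ hb)) fun a ha => c a (tt.le₁ ha)))

theorem le_J_of_comm (cf : JC.Cf R J F₁ F₂ V 1) (cv : Cv R J F₁ V) (hA : A ≤ R) (hN : R ≤ Ns A)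
    (hc : ∀ a ∈ A, ∀ b ∈ A, a * b = b * a) (hV : A ≤ Cs V) : A ≤ J := fun a ha => by
  have tt := cf.tt
  have k : ∀ r ∈ R, r ∈ Ns F₁ → r ∈ Cs V → r ∈ J := fun r hr =>
    cv r hr (Tw.of_mem cf.two hr) (cf.norm hr)
  by_contra na
  have ns : a ∉ Ns F₁ := fun e => na (k a (hA ha) e (hV ha))
  obtain ⟨c, hc', d, hd, e⟩ := tt.exists_mul (k _ (hA (mul_mem ha ha))
    (cf.mul_Ns (hA ha) (hA ha) ns ns) (hV (mul_mem ha ha)))
  have q : ∀ f ∈ F₁, f ∉ V → (a * f * a⁻¹)⁻¹ * d ∈ V := fun f hf nf => by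
    refine (tt.nondeg f hf _ (mul_mem (inv_mem ((cf.swap (hA ha) ns).1 f hf)) hd) ?_).resolve_left nf
    have e1 := hc a ha _ (mul_mem ha (mem_normalizer_conj (hN (cf.le₁ hf)) (inv_mem ha)))
    have e2 := tt.comm₁ hc' (mem_normalizer_conj (tt.norm₂₁ hd) hf)
    rw [inv_eq_of_sq (tt.sq₁ f hf)] at e1
    calc f * ((a * f * a⁻¹)⁻¹ * d)
        = (a * f * a⁻¹)⁻¹ * (a * (f * a⁻¹ * f) * a) * a⁻¹ * (a * f * a⁻¹)⁻¹ * d := by group
      _ = (a * f * a⁻¹)⁻¹ * (a * a) * f * (a * a)⁻¹ * d := by rw [← e1]; group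
      _ = (a * f * a⁻¹)⁻¹ * (c * (d * f * d⁻¹)) * c⁻¹ * d := by rw [← e]; group
      _ = (a * f * a⁻¹)⁻¹ * d * f := by rw [e2]; group
  obtain ⟨x, hx, y, hy, nx, ny, nxy⟩ := tt.exists_two
  have := mem_normalizer_conj' (cf.NsV (hA ha)) (mul_mem (q x hx nx) (inv_mem (q y hy ny)))
  rw [show a⁻¹ * ((a * x * a⁻¹)⁻¹ * d * ((a * y * a⁻¹)⁻¹ * d)⁻¹) * a = x⁻¹ * y by group,
    inv_eq_of_sq (tt.sq₁ x hx)] at this
  exact nxy this

theorem id_ly [IsSimpleGroup G] (tt : TT J F₁ F₂ V) (t₁ : Tr2 ⊤ F₁) (cv : Cv ⊤ J F₁ V)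
    (hR : IsSylowIn 2 R ⊤) (JR : J ≤ R) (hσ : σ ∈ R) (n₁ : σ ∈ Ns F₁) (nc : σ ∉ Cs V)
    (nR : ¬ R ≤ Ns F₁) : Spor.IsoLy G := by
  have nJ := grow tt cv hR.isPGroup JR le_top
  have cvR := cv.mono (le_top (a := R))
  have cf := cf_one tt hR.isPGroup JR nJ cvR
  obtain ⟨S, rfl⟩ := hR.exists_sylow_eq
  obtain ⟨r, hr, nr⟩ := SetLike.not_le_iff_exists.1 nR
  have hG : ∀ H : Subgroup G, H.index ≠ 2 := fun H e => by
    rcases (H.normal_of_index_eq_two e).eq_bot_or_eq_top with rfl | rfl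
    · rw [index_bot] at e
      have := isCyclic_of_prime_card e
      exact tt_nc tt inferInstance
    · simp at e
  have fus : ∀ a ∈ V, ∀ b ∈ V, a ≠ 1 → b ≠ 1 → IsConj a b := fun a ha b hb a1 b1 => by
    obtain ⟨c, hc, c1, ca⟩ := JC.exists_third tt a
    obtain ⟨d, hd, d1, db⟩ := JC.exists_third tt b
    obtain ⟨g, -, -, e, -⟩ := t₁ a (tt.V₁ ha) c (tt.V₁ hc) b (tt.V₁ hb) d (tt.V₁ hd) a1 c1 ca.symm
      b1 d1 db.symm
    exact isConj_iff.2 ⟨g, e⟩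
  obtain ⟨z, u, h⟩ := GHA.exists_JT_fus S (fun E hE hN e2 => tt.cardV ▸ Trans.card_le_of_le
      (le_V_of_normal cf cvR hr nr hE hN fun e he => by rw [← pow_two, e2 e he]))
    (fun q => by
      have := q (F₁.subgroupOf S) (isMulCommutative_of_sq fun a ha => Subtype.ext (tt.sq₁ _ ha))
        fun a ha => Subtype.ext (by rw [pow_two]; exact tt.sq₁ _ ha)
      rw [Nat.card_congr (subgroupOfEquivOfLe cf.le₁).toEquiv, tt.card₁] at this
      omega) cf.leV (nJ.trans tt.Ns_le)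
    ⟨tt.cardV, by
      have : Nontrivial V := Finite.one_lt_card_iff_nontrivial.1 (by rw [tt.cardV]; omega)
      exact Monoid.exponent_eq_prime_iff Nat.prime_two |>.2 fun v v1 =>
        orderOf_eq_prime (Subtype.ext (by rw [pow_two]; exact tt.sqV _ v.2)) v1⟩ fus
  obtain ⟨T, α, s, f⟩ := h.exists_Fz (fus u h.uU z h.zU h.u1 h.z1)
    (fus _ (mul_mem h.zU h.uU) z h.zU h.zu1 h.z1)
  obtain ⟨A, k⟩ := f.exists_FA
  have AS : A ≤ S := fun a ha => ((k.memT a).1 (k.AT ha)).1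
  obtain ⟨B, b⟩ := k.small fun a ha => tt.sq_mem (le_J_of_comm cf cvR AS k.SA k.comm
    (fun a ha => mem_Cs.2 fun v hv => by
      have e1 := k.zc a (AS ha)
      have e2 := ((k.memT a).1 (k.AT ha)).2
      rcases (k.mem v).1 hv with q | q | q | q <;> rw [q]
      · simp
      · exact e1.symm
      · exact e2.symm
      · rw [mul_assoc, ← e2, ← mul_assoc, ← e1, mul_assoc]) ha)
  rcases b.main with ⟨M, i⟩ | ⟨E₁, E₂, y, l⟩ | ⟨E₁, E₂, j⟩ | ⟨E₁, E₂, y, f, l⟩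
  · exact (i.false hG).elim
  · exact (l.false hG).elim
  · exfalso
    have BS : B ≤ S := j.sup ▸ le_sup_left
    have q₁ := e16 tt cf.two JR nJ cvR (j.tt.le₁.trans BS) j.tt.sq₁ j.tt.card₁
    have q₂ := e16 tt cf.two JR nJ cvR (j.tt.le₂.trans BS) j.tt.sq₂ j.tt.card₂
    have BJ : B ≤ J := j.tt.sup ▸ sup_le (q₁.elim (· ▸ tt.le₁) (· ▸ tt.le₂))
      (q₂.elim (· ▸ tt.le₁) (· ▸ tt.le₂))
    have m : σ ∈ J ⊔ zpowers s := sup_le_sup_right BJ _ (j.sup.ge hσ)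
    rcases Comp.mem_sup_zpowers j.sq (nJ k.sS) m with q | q
    · exact nc (tt.cent q)
    · have s₁ := (mul_mem_cancel_left n₁).1 (tt.norm₁ q)
      have s₂ := Ns₂_of tt (nJ k.sS) s₁
      refine j.tt.ne (Eq.trans ?_ j.swap)
      rcases q₁ with q | q <;> rw [q]
      exacts [(mem_Ns_iff.1 s₁).symm, (mem_Ns_iff.1 s₂).symm]
  · exact Agent.S3100.result (tt_nc tt) S l.iso

end Cfsg.Lib.NML
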